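import Mathlib
import Groth.Prelude.Def_CxOX
import Groth.Agent.Lib.Helper16.Fl1
import Groth.Agent.Lib.Helper28.SecPow

/-!
# Helper23 — ExtZ.Unit: `CxOX.extZeroUnit U.ι ≅ jS U`

Both corepresent sections over `U`.
-/

set_option autoImplicit false
universe u
open CategoryTheory CategoryTheory.Limits TopologicalSpace Opposite AlgebraicGeometry

namespace Groth.Agent.Lib.Helper23.ExtZ

/-- two objects with naturally equivalent covariant hom-functors are isomorphic -/
theorem nonempty_iso_of_homEquiv {C : Type*} [Category C] {A B : C}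
    (E : ∀ M : C, (A ⟶ M) ≃ (B ⟶ M))
    (hE : ∀ {M N : C} (a : A ⟶ M) (φ : M ⟶ N), E N (a ≫ φ) = E M a ≫ φ) : Nonempty (A ≅ B) := by
  have hE' : ∀ {M N : C} (b : B ⟶ M) (φ : M ⟶ N), (E N).symm (b ≫ φ) = (E M).symm b ≫ φ := by
    intro M N b φ
    apply (E N).injective
    rw [Equiv.apply_symm_apply, hE, Equiv.apply_symm_apply]
  refine ⟨⟨(E B).symm (𝟙 B), E A (𝟙 A), ?_, ?_⟩⟩
  · rw [← hE', Category.id_comp, Equiv.symm_apply_apply]
  · rw [← hE, Category.id_comp, Equiv.apply_symm_apply]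

open Groth.Agent.Lib.Helper28 Groth.Agent.Lib.Helper28.QCohLoc Groth.Agent.Lib.Helper28.GenLocus
  Groth.Agent.Lib.Helper16.Stk

variable {X : Scheme.{u}}

/-- morphisms from the structure sheaf are global sections -/
noncomputable def secEquiv (N : X.Modules) : (Coh.structureModule X ⟶ N) ≃ Γ(N, ⊤) where
  toFun := secOf
  invFun := TwistGen.ofSection N
  left_inv := ofSection_secOf
  right_inv := secOf_ofSection

theorem secEquiv_comp {N N' : X.Modules} (s : Coh.structureModule X ⟶ N) (ψ : N ⟶ N') :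
    secEquiv N' (s ≫ ψ) = ψ.app ⊤ (secEquiv N s) := rfl

theorem image_top_le (U : X.Opens) : U.ι ''ᵁ ⊤ ≤ U := by
  rw [Scheme.Opens.ι_image_top]

theorem le_image_top (U : X.Opens) : U ≤ U.ι ''ᵁ ⊤ := by
  rw [Scheme.Opens.ι_image_top]

/-- sections of the restriction over the whole open subscheme are sections over the open -/
noncomputable def topEquiv (U : X.Opens) (M : X.Modules) :
    Γ((Scheme.Modules.restrictFunctor U.ι).obj M, ⊤) ≃ Γ(M, U) where
  toFun y := res M (le_image_top U) (show Γ(M, U.ι ''ᵁ ⊤) from y)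
  invFun z := (res M (image_top_le U) z : Γ(M, U.ι ''ᵁ ⊤))
  left_inv y := by
    show res M (image_top_le U) (res M (le_image_top U) _) = _
    rw [res_res, res_self]
  right_inv z := by
    show res M (le_image_top U) (res M (image_top_le U) _) = _
    rw [res_res, res_self]

theorem topEquiv_map (U : X.Opens) {M N : X.Modules} (φ : M ⟶ N)
    (y : Γ((Scheme.Modules.restrictFunctor U.ι).obj M, ⊤)) :
    topEquiv U N (((Scheme.Modules.restrictFunctor U.ι).map φ).app ⊤ y) =
      φ.app U (topEquiv U M y) := by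
  show res N (le_image_top U) (φ.app (U.ι ''ᵁ ⊤) _) = φ.app U (res M (le_image_top U) _)
  rw [app_res]

/-- `j_! O_U` (as the left adjoint of restriction) corepresents sections over `U` -/
noncomputable def extZeroUnitEquiv (U : X.Opens) (M : X.Modules) :
    (CxOX.extZeroUnit U.ι ⟶ M) ≃ Γ(M, U) :=
  ((CxOX.extZeroAdj U.ι).homEquiv (Coh.structureModule U) M).trans
    ((secEquiv _).trans (topEquiv U M))

theorem extZeroUnitEquiv_comp (U : X.Opens) {M N : X.Modules} (a : CxOX.extZeroUnit U.ι ⟶ M)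
    (φ : M ⟶ N) : extZeroUnitEquiv U N (a ≫ φ) = φ.app U (extZeroUnitEquiv U M a) := by
  unfold extZeroUnitEquiv
  simp only [Equiv.trans_apply]
  rw [Adjunction.homEquiv_naturality_right, secEquiv_comp, topEquiv_map]

theorem jSEquiv_symm_app (U : X.Opens) {M N : X.Modules} (φ : M ⟶ N) (z : Γ(M, U)) :
    (jSEquiv U N).symm (φ.app U z) = (jSEquiv U M).symm z ≫ φ := by
  apply (jSEquiv U N).injective
  rw [Equiv.apply_symm_apply, jSEquiv_comp, Equiv.apply_symm_apply]
  rfl

/-- `CxOX.extZeroUnit U.ι ≅ jS U` -/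
theorem nonempty_extZeroUnit_iso_jS (U : X.Opens) : Nonempty (CxOX.extZeroUnit U.ι ≅ jS U) := by
  refine nonempty_iso_of_homEquiv (fun M => (extZeroUnitEquiv U M).trans (jSEquiv U M).symm) ?_
  intro M N a φ
  show (jSEquiv U N).symm (extZeroUnitEquiv U N (a ≫ φ)) =
    (jSEquiv U M).symm (extZeroUnitEquiv U M a) ≫ φ
  rw [extZeroUnitEquiv_comp]
  exact jSEquiv_symm_app U φ _

end Groth.Agent.Lib.Helper23.ExtZ
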